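import Groth.Prelude.Def_AlgSp
import Groth.Agent.L23.AlgSpace
import Groth.Agent.L23.Points
import Mathlib.AlgebraicGeometry.ZariskisMainTheorem
import Mathlib.RingTheory.Flat.Equalizer

/-!
# Affine schemes over a base through a ring, and uniqueness of descent along integral injective maps
-/

set_option autoImplicit false
set_option linter.style.haveILetI false
set_option backward.isDefEq.respectTransparency false
set_option backward.isDefEq.respectTransparency.types false

universe u

open CategoryTheory CategoryTheory.Limits AlgebraicGeometry Opposite TensorProduct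

noncomputable section

namespace Groth.L24.AffQuot

variable {S₀ : Scheme.{u}} {C : Type u} [CommRing C] (σ : Spec (CommRingCat.of C) ⟶ S₀)

/-- The spectrum of a `C`-algebra as a scheme over the base. -/
abbrev ov (A : Type u) [CommRing A] [Algebra C A] : Over S₀ :=
  Over.mk (Spec.map (CommRingCat.ofHom (algebraMap C A)) ≫ σ)

variable {A B D : Type u} [CommRing A] [CommRing B] [CommRing D] [Algebra C A] [Algebra C B] [Algebra C D]

/-- The morphism attached to a map of algebras. -/
def ovMap (f : A →ₐ[C] B) : ov σ B ⟶ ov σ A :=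
  Over.homMk (Spec.map (CommRingCat.ofHom f.toRingHom)) (by
    show Spec.map _ ≫ Spec.map (CommRingCat.ofHom (algebraMap C A)) ≫ σ = Spec.map _ ≫ σ
    rw [← Spec.map_comp_assoc, ← CommRingCat.ofHom_comp]
    congr 3
    exact f.comp_algebraMap)

@[simp] theorem ovMap_left (f : A →ₐ[C] B) :
    (ovMap σ f).left = Spec.map (CommRingCat.ofHom f.toRingHom) := rfl

theorem ovMap_comp (f : A →ₐ[C] B) (g : B →ₐ[C] D) : ovMap σ (g.comp f) = ovMap σ g ≫ ovMap σ f := by
  apply Over.OverMorphism.ext
  show Spec.map (CommRingCat.ofHom (g.comp f).toRingHom) = Spec.map _ ≫ Spec.map _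
  rw [← Spec.map_comp, ← CommRingCat.ofHom_comp]
  rfl

/-- A monomorphism locally of finite type through which a dominant integral map factors is an isomorphism. -/
theorem isIso_of_factor [Algebra.IsIntegral C A] (hinj : Function.Injective (algebraMap C A))
    {Q : Scheme.{u}} (e : Q ⟶ Spec (CommRingCat.of C)) [Mono e] [LocallyOfFiniteType e]
    (l : Spec (CommRingCat.of A) ⟶ Q) (h : l ≫ e = Spec.map (CommRingCat.ofHom (algebraMap C A))) :
    IsIso e := by
  have hint : IsIntegralHom (Spec.map (CommRingCat.ofHom (algebraMap C A))) :=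
    IsIntegralHom.SpecMap_iff.2 (algebraMap_isIntegral_iff.2 ‹_›)
  have : UniversallyClosed (l ≫ e) := by rw [h]; infer_instance
  have hl : Surjective l := ⟨fun z => by
    obtain ⟨P, -, hP, hP'⟩ := Ideal.exists_ideal_over_prime_of_isIntegral (S := A) (e z).asIdeal ⊥ (by
      rw [← RingHom.ker_eq_comap_bot, (RingHom.injective_iff_ker_eq_bot _).1 hinj]
      exact bot_le)
    refine ⟨⟨P, hP⟩, e.injective ?_⟩
    rw [← Scheme.Hom.comp_apply, h]
    exact PrimeSpectrum.ext hP'⟩
  have : UniversallyClosed e := UniversallyClosed.of_comp_surjective l e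
  have : QuasiCompact e := inferInstance
  have : IsProper e := ⟨⟩
  have : IsClosedImmersion e := (IsClosedImmersion.iff_isProper_and_mono e).2 ⟨‹_›, ‹_›⟩
  refine IsClosedImmersion.isIso_of_injective_of_isAffine ?_
  have h1 : Function.Injective (l ≫ e).appTop.hom := by
    rw [h]
    have hsq := congrArg CommRingCat.Hom.hom
      (Scheme.ΓSpecIso_inv_naturality (CommRingCat.ofHom (algebraMap C A)))
    intro x y hxy
    obtain ⟨x', rfl⟩ := (Scheme.ΓSpecIso (CommRingCat.of C)).commRingCatIsoToRingEquiv.symm.surjective x
    obtain ⟨y', rfl⟩ := (Scheme.ΓSpecIso (CommRingCat.of C)).commRingCatIsoToRingEquiv.symm.surjective y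
    refine congrArg _ (hinj ?_)
    apply (Scheme.ΓSpecIso (CommRingCat.of A)).commRingCatIsoToRingEquiv.symm.injective
    exact (congr($hsq x')).trans (hxy.trans (congr($hsq y')).symm)
  rw [Scheme.Hom.comp_appTop, CommRingCat.hom_comp, RingHom.coe_comp] at h1
  exact h1.of_comp

/-- Morphisms from `Spec C` to an algebraic space agreeing on `Spec A` are equal. -/
theorem hom_ext [Algebra.IsIntegral C A] (hinj : Function.Injective (algebraMap C A))
    {N : AlgSp.Sp S₀} (hN : AlgSp.IsAlgSpace N) {h h' : (AlgSp.yon S₀).obj (ov σ C) ⟶ N}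
    (w : (AlgSp.yon S₀).map (ovMap σ (Algebra.ofId C A)) ≫ h =
      (AlgSp.yon S₀).map (ovMap σ (Algebra.ofId C A)) ≫ h') : h = h' := by
  have hd := Groth.L23.lft_diag hN
  have sq : IsPullback (hN.diag.fst (prod.lift h h'))
      ((AlgSp.yon S₀).map (hN.diag.snd (prod.lift h h'))) (Limits.diag N) (prod.lift h h') :=
    hN.diag.isPullback _
  obtain ⟨e, he_def⟩ : ∃ e, e = hN.diag.snd (prod.lift h h') := ⟨_, rfl⟩
  rw [← he_def] at sq
  have he : LocallyOfFiniteType e.left := hd.2 _ _ _ sq
  let p := (AlgSp.yon S₀).map (ovMap σ (Algebra.ofId C A))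
  let l := sq.lift (p ≫ h) p (by apply prod.hom_ext <;> simp [p, w])
  obtain ⟨l', hl'⟩ := (AlgSp.yon S₀).map_surjective l
  have e1 : l' ≫ e = ovMap σ (Algebra.ofId C A) := (AlgSp.yon S₀).map_injective (by
    rw [Functor.map_comp, hl']
    exact sq.lift_snd _ _ _)
  have : Mono ((AlgSp.yon S₀).map e) := PullbackCone.mono_snd_of_is_pullback_of_mono sq.isLimit
  have : Mono e := (AlgSp.yon S₀).mono_of_mono_map this
  let e' : (hN.diag.pullback (prod.lift h h')).left ⟶ Spec (CommRingCat.of C) := e.left
  have : Mono e' := Over.mono_left_of_mono e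
  have : LocallyOfFiniteType e' := he
  have : IsIso e' := isIso_of_factor hinj e' l'.left (congrArg CommaMorphism.left e1)
  have : IsIso ((Over.forget S₀).map e) := this
  have : IsIso e := isIso_of_reflects_iso e (Over.forget S₀)
  rw [← cancel_epi ((AlgSp.yon S₀).map e)]
  have w1 := congrArg (fun t => t ≫ prod.fst) sq.w
  have w2 := congrArg (fun t => t ≫ prod.snd) sq.w
  simp at w1 w2
  rw [← w1, ← w2]

/-- Morphisms from `Spec C` to the base agreeing on `Spec A` are equal. -/
theorem hom_ext_base [Algebra.IsIntegral C A] (hinj : Function.Injective (algebraMap C A))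
    {f f' : Spec (CommRingCat.of C) ⟶ S₀}
    (w : Spec.map (CommRingCat.ofHom (algebraMap C A)) ≫ f =
      Spec.map (CommRingCat.ofHom (algebraMap C A)) ≫ f') : f = f' := by
  let d := pullback.diagonal (terminal.from S₀)
  let g : Spec (CommRingCat.of C) ⟶ pullback (terminal.from S₀) (terminal.from S₀) :=
    pullback.lift f f' (terminal.hom_ext _ _)
  let e := pullback.snd d g
  let l : Spec (CommRingCat.of A) ⟶ pullback d g :=
    pullback.lift (Spec.map (CommRingCat.ofHom (algebraMap C A)) ≫ f)
      (Spec.map (CommRingCat.ofHom (algebraMap C A))) (by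
        apply pullback.hom_ext
        · simp [d, g]
        · simp [d, g, w])
  have : IsImmersion e := inferInstance
  have : IsIso e := isIso_of_factor hinj e l (pullback.lift_snd _ _ _)
  rw [← cancel_epi e]
  have h1 := congrArg (· ≫ pullback.fst (terminal.from S₀) (terminal.from S₀)) (pullback.condition (f := d) (g := g))
  have h2 := congrArg (· ≫ pullback.snd (terminal.from S₀) (terminal.from S₀)) (pullback.condition (f := d) (g := g))
  simp [d, g] at h1 h2
  rw [← h1, ← h2]

/-- The two maps have the base as their equaliser after flat base change. -/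
theorem mem_range_of_eq {s t : A →ₐ[C] B} (hfull : ∀ a, s a = t a → ∃ c, algebraMap C A c = a)
    (C' : Type u) [CommRing C'] [Algebra C C'] [Module.Flat C C'] (z : A ⊗[C] C')
    (hz : Algebra.TensorProduct.map s (AlgHom.id C C') z = Algebra.TensorProduct.map t (AlgHom.id C C') z) :
    ∃ c : C', (Algebra.TensorProduct.includeRight c : A ⊗[C] C') = z := by
  have hex : Function.Exact (Algebra.linearMap C A) (s.toLinearMap - t.toLinearMap) := by
    intro x
    constructor
    · exact fun hx => hfull x (sub_eq_zero.1 hx)
    · rintro ⟨c, rfl⟩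
      simp
  obtain ⟨w, hw⟩ := (Module.Flat.rTensor_exact C' hex z).1 (by
    rw [LinearMap.rTensor_sub, LinearMap.sub_apply, sub_eq_zero]
    exact hz)
  refine ⟨TensorProduct.lid C C' w, ?_⟩
  rw [← hw]
  clear hw
  induction w with
  | zero => simp
  | add x y hx hy => simp only [map_add, hx, hy]
  | tmul c r =>
    simp [Algebra.algebraMap_eq_smul_one, TensorProduct.smul_tmul]

theorem includeRight_injective (hinj : Function.Injective (algebraMap C A)) (C' : Type u) [CommRing C']
    [Algebra C C'] [Module.Flat C C'] :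
    Function.Injective (Algebra.TensorProduct.includeRight : C' →ₐ[C] A ⊗[C] C') := by
  intro x y hxy
  apply (TensorProduct.lid C C').symm.injective
  apply Module.Flat.rTensor_preserves_injective_linearMap (M := C') (Algebra.linearMap C A) hinj
  simpa [Algebra.linearMap] using hxy

end Groth.L24.AffQuot
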