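import Groth.Agent.L24.AffQuot.Point

/-!
# An invariant map descends etale locally on the spectrum of the invariants
-/

set_option autoImplicit false
set_option linter.style.haveILetI false
set_option backward.isDefEq.respectTransparency false
set_option backward.isDefEq.respectTransparency.types false

universe u

open CategoryTheory CategoryTheory.Limits AlgebraicGeometry Opposite TensorProduct IsLocalRing

noncomputable section

namespace Groth.L24.AffQuot

attribute [local instance] Algebra.TensorProduct.rightAlgebra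

variable {S₀ : Scheme.{u}} {C : Type u} [CommRing C]

theorem isIntegral_tensor_right (A C' : Type u) [CommRing A] [CommRing C'] [Algebra C A] [Algebra C C']
    [Algebra.IsIntegral C A] : Algebra.IsIntegral C' (A ⊗[C] C') := by
  refine ⟨fun x => ?_⟩
  obtain ⟨y, rfl⟩ := (Algebra.TensorProduct.commRight C C' A).surjective x
  exact (Algebra.IsIntegral.isIntegral y).map (Algebra.TensorProduct.commRight C C' A).toAlgHom

variable (σ : Spec (CommRingCat.of C) ⟶ S₀) {A B : Type u} [CommRing A] [CommRing B]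
  [Algebra C A] [Algebra C B] [Algebra.IsIntegral C A]

/-- An invariant map descends on an etale neighbourhood of every prime of the invariants. -/
theorem exists_local {s t : A →ₐ[C] B} (ht : (t : A →+* B).Finite)
    (harr : ∀ (K : Type u) [Field K] [IsAlgClosed K] [Algebra C K] (z₀ z₁ : A →ₐ[C] K),
      ∃ r : B →ₐ[C] K, r.comp t = z₀ ∧ r.comp s = z₁)
    (hinj : Function.Injective (algebraMap C A))
    (hfull : ∀ a, s a = t a → ∃ c, algebraMap C A c = a)
    {N : AlgSp.Sp S₀} (hN : AlgSp.IsAlgSpace N) (φ : (AlgSp.yon S₀).obj (ov σ A) ⟶ N)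
    (hφ : (AlgSp.yon S₀).map (ovMap σ s) ≫ φ = (AlgSp.yon S₀).map (ovMap σ t) ≫ φ)
    (q : PrimeSpectrum C) :
    ∃ (C' : Type u) (_ : CommRing C') (_ : Algebra C C') (_ : Algebra.Etale C C'),
      q ∈ Set.range (PrimeSpectrum.comap (algebraMap C C')) ∧
      ∃ h : (AlgSp.yon S₀).obj (ov σ C') ⟶ N,
        (AlgSp.yon S₀).map (ovMap σ (Algebra.TensorProduct.includeRight : C' →ₐ[C] A ⊗[C] C')) ≫ h =
          (AlgSp.yon S₀).map (ovMap σ (Algebra.TensorProduct.includeLeft : A →ₐ[C] A ⊗[C] C')) ≫ φ := by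
  classical
  let R := Localization.AtPrime q.asIdeal
  obtain ⟨S, _, _, _, _, hS⟩ := Groth.L05.Henselization.exists_isStrictHenselization R
  haveI := hS.henselian
  haveI : IsSepClosed (ResidueField S) := hS.isSepClosure.sep_closed
  letI : Algebra C S := ((algebraMap R S).comp (algebraMap C R)).toAlgebra
  haveI : IsScalarTower C R S := IsScalarTower.of_algebraMap_eq' rfl
  have hind : EtPBC.IsIndEtale C S :=
    Groth.L27.IndEtale.trans C R S (Groth.L27.EtSite.isIndEtale_localization C q.asIdeal.primeCompl R)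
      (Groth.L05.Henselization.isIndEtale_of_isStrictHenselization R S)
  haveI : Module.Flat C S := Groth.L27.IndEtale.flat C S hind
  let K := AlgebraicClosure (ResidueField S)
  haveI : IsScalarTower C S K := IsScalarTower.of_algebraMap_eq fun x => rfl
  haveI : IsScalarTower S (ResidueField S) K := IsScalarTower.of_algebraMap_eq fun x => rfl
  obtain ⟨V, p, hV, hp, E, _, _, _, _, _, τ, γ, v₀, hγ, hgood⟩ :=
    exists_chart σ ht harr hinj hN φ hφ S K
  obtain ⟨C₁, _, _, _, β, τ₁, hτ₁⟩ :=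
    exists_stage ((algebraMap R S).comp (algebraMap C R)) hind τ
  -- the lift over the stage
  let sb : A ⊗[C] C₁ →ₐ[C] B ⊗[C] C₁ := Algebra.TensorProduct.map s (AlgHom.id C C₁)
  let tb : A ⊗[C] C₁ →ₐ[C] B ⊗[C] C₁ := Algebra.TensorProduct.map t (AlgHom.id C C₁)
  let ψ₁ : ov σ (A ⊗[C] C₁) ⟶ V := ovMap σ (τ₁.restrictScalars C) ≫ γ
  have hψ₁ : (AlgSp.yon S₀).map ψ₁ ≫ p = (AlgSp.yon S₀).map
      (ovMap σ (Algebra.TensorProduct.includeLeft : A →ₐ[C] A ⊗[C] C₁)) ≫ φ := by
    rw [Functor.map_comp, Category.assoc, hγ, ← Functor.map_comp_assoc, ← ovMap_comp]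
    congr 3
    exact AlgHom.ext fun a => τ₁.commutes a
  have hab : (AlgSp.yon S₀).map (ovMap σ sb ≫ ψ₁) ≫ p = (AlgSp.yon S₀).map (ovMap σ tb ≫ ψ₁) ≫ p := by
    rw [Functor.map_comp (AlgSp.yon S₀) (ovMap σ sb) ψ₁, Functor.map_comp (AlgSp.yon S₀) (ovMap σ tb) ψ₁,
      Category.assoc, Category.assoc, hψ₁, ← Functor.map_comp_assoc,
      ← Functor.map_comp_assoc, ← ovMap_comp, ← ovMap_comp,
      show sb.comp (Algebra.TensorProduct.includeLeft : A →ₐ[C] A ⊗[C] C₁) =
        (Algebra.TensorProduct.includeLeft : B →ₐ[C] B ⊗[C] C₁).comp s from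
          AlgHom.ext fun a => by simp [sb],
      show tb.comp (Algebra.TensorProduct.includeLeft : A →ₐ[C] A ⊗[C] C₁) =
        (Algebra.TensorProduct.includeLeft : B →ₐ[C] B ⊗[C] C₁).comp t from
          AlgHom.ext fun a => by simp [tb],
      ovMap_comp, ovMap_comp, Functor.map_comp, Functor.map_comp, Category.assoc, Category.assoc, hφ]
  obtain ⟨O, hO₁, hO₂⟩ := exists_open_eq hp _ _ hab
  let q₁ : PrimeSpectrum C₁ := PrimeSpectrum.comap β.toRingHom (closedPoint S)
  have hq₁ : PrimeSpectrum.comap (algebraMap C C₁) q₁ = q := by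
    rw [← PrimeSpectrum.comap_comp_apply,
      show β.toRingHom.comp (algebraMap C C₁) = (algebraMap R S).comp (algebraMap C R) from
        β.comp_algebraMap,
      PrimeSpectrum.comap_comp_apply, IsLocalRing.comap_closedPoint]
    exact PrimeSpectrum.ext (Localization.AtPrime.under_maximalIdeal)
  haveI : Algebra.IsIntegral C B := by
    letI := (t : A →+* B).toAlgebra
    haveI : IsScalarTower C A B := IsScalarTower.of_algebraMap_eq fun c => (t.commutes c).symm
    haveI : Module.Finite A B := ht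
    haveI : Algebra.IsIntegral A B := Algebra.IsIntegral.of_finite A B
    exact Algebra.IsIntegral.trans A
  haveI := isIntegral_tensor_right (C := C) B C₁
  -- the good locus contains all primes over `q₁`
  have hgoodQ : ∀ Q : PrimeSpectrum (B ⊗[C] C₁),
      PrimeSpectrum.comap (algebraMap C₁ (B ⊗[C] C₁)) Q = q₁ →
        (Q : ↥(ov σ (B ⊗[C] C₁)).left) ∈ O := by
    intro Q hQ
    obtain ⟨ρ, hρ, hker⟩ := exists_point_of_prime ((algebraMap S K).comp β.toRingHom) Q.asIdeal (by
      rw [← PrimeSpectrum.comap_asIdeal, hQ]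
      ext x
      simp [q₁, IsScalarTower.algebraMap_apply S (ResidueField S) K, IsLocalRing.closedPoint])
    let ρC : B ⊗[C] C₁ →ₐ[C] K :=
      { toRingHom := ρ
        commutes' := fun c => by
          have h1 := congr($hρ (algebraMap C C₁ c))
          simp only [RingHom.comp_apply, AlgHom.toRingHom_eq_coe, RingHom.coe_coe, AlgHom.commutes] at h1
          rw [IsScalarTower.algebraMap_apply C S K, ← h1]
          congr 1
          simp [Algebra.algebraMap_eq_smul_one] }
    have hlegs : ∀ (u : A →ₐ[C] B),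
        ovMap σ ρC ≫ ovMap σ (Algebra.TensorProduct.map u (AlgHom.id C C₁)) ≫ ψ₁ = v₀ := by
      intro u
      let zA : A →ₐ[C] K := ρC.comp ((Algebra.TensorProduct.includeLeft : B →ₐ[C] B ⊗[C] C₁).comp u)
      let zC : A ⊗[C] S →ₐ[C] K :=
        Algebra.TensorProduct.lift zA (IsScalarTower.toAlgHom C S K) fun _ _ => Commute.all _ _
      let z : A ⊗[C] S →ₐ[S] K :=
        { toRingHom := zC.toRingHom
          commutes' := fun x => by simp [zC, Algebra.TensorProduct.right_algebraMap_apply] }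
      rw [← hgood z, ← Category.assoc, ← ovMap_comp]
      show _ ≫ ovMap σ (τ₁.restrictScalars C) ≫ γ = _
      rw [← Category.assoc, ← ovMap_comp]
      congr 2
      have hcomm : ρC.comp (Algebra.TensorProduct.map u (AlgHom.id C C₁)) =
          (z.restrictScalars C).comp (Algebra.TensorProduct.map (AlgHom.id C A) β) := by
        refine Algebra.TensorProduct.ext' fun a x => ?_
        have hx : ρ ((1 : B) ⊗ₜ[C] x) = algebraMap S K (β x) := congr($hρ x)
        show ρ (u a ⊗ₜ[C] x) = zC (a ⊗ₜ[C] β x)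
        rw [show u a ⊗ₜ[C] x = (u a ⊗ₜ[C] (1 : C₁)) * ((1 : B) ⊗ₜ[C] x) by simp, map_mul, hx]
        simp [zC, zA, ρC]
      refine AlgHom.ext fun e => ?_
      refine (congr($hcomm (τ₁ e))).trans ?_
      exact congrArg z (congr($hτ₁ e))
    have hk : ovMap σ ρC ≫ ovMap σ sb ≫ ψ₁ = ovMap σ ρC ≫ ovMap σ tb ≫ ψ₁ :=
      (hlegs s).trans (hlegs t).symm
    have hpt : (ovMap σ ρC).left (closedPoint K) = (Q : ↥(ov σ (B ⊗[C] C₁)).left) := by
      refine PrimeSpectrum.ext ?_
      show Ideal.comap ρ (closedPoint K).asIdeal = Q.asIdeal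
      rw [← hker]
      ext x
      simp [IsLocalRing.closedPoint]
      exact ⟨fun h => by_contra fun h' => h (IsUnit.mk0 (ρ x) h'), fun h => h ▸ not_isUnit_zero⟩
    exact hpt ▸ hO₂ (ovMap σ ρC) (closedPoint K) hk
  -- shrink
  have hcl : IsClosed (PrimeSpectrum.comap (algebraMap C₁ (B ⊗[C] C₁)) ''
      ((O : Set ↥(ov σ (B ⊗[C] C₁)).left)ᶜ)) :=
    PrimeSpectrum.isClosedMap_comap_of_isIntegral _ (algebraMap_isIntegral_iff.2 inferInstance) _
      O.isOpen.isClosed_compl
  obtain ⟨_, ⟨_, ⟨c, rfl⟩, rfl⟩, hqc, hcsub⟩ :=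
    PrimeSpectrum.isBasis_basic_opens.exists_subset_of_mem_open (a := q₁) (ou := hcl.isOpen_compl) (by
      rintro ⟨Q, hQ, hQq⟩
      exact hQ (hgoodQ Q hQq))
  let C₂ := Localization.Away c
  haveI : Algebra.Etale C₁ C₂ := Algebra.Etale.of_isLocalizationAway c
  haveI : Algebra.Etale C C₂ := Algebra.Etale.comp C C₁ C₂
  haveI : Module.Flat C C₂ := inferInstance
  let ι : C₁ →ₐ[C] C₂ := IsScalarTower.toAlgHom C C₁ C₂
  let ψ₂ : ov σ (A ⊗[C] C₂) ⟶ V := ovMap σ (Algebra.TensorProduct.map (AlgHom.id C A) ι) ≫ ψ₁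
  refine ⟨C₂, inferInstance, inferInstance, inferInstance, ?_, ?_⟩
  · obtain ⟨q₂, hq₂⟩ : q₁ ∈ Set.range (PrimeSpectrum.comap (algebraMap C₁ C₂)) := by
      rw [PrimeSpectrum.localization_away_comap_range C₂ c]
      exact hqc
    exact ⟨q₂, by rw [IsScalarTower.algebraMap_eq C C₁ C₂, PrimeSpectrum.comap_comp_apply, hq₂, hq₁]⟩
  have heq : ovMap σ (Algebra.TensorProduct.map s (AlgHom.id C C₂)) ≫ ψ₂ =
      ovMap σ (Algebra.TensorProduct.map t (AlgHom.id C C₂)) ≫ ψ₂ := by
    let bι : B ⊗[C] C₁ →ₐ[C] B ⊗[C] C₂ := Algebra.TensorProduct.map (AlgHom.id C B) ι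
    have key := hO₁ (ovMap σ bι) (by
      rintro _ ⟨Q₂, rfl⟩
      by_contra hQ
      refine hcsub ?_ ⟨_, hQ, rfl⟩
      show c ∉ Ideal.comap (algebraMap C₁ (B ⊗[C] C₁)) (Ideal.comap bι.toRingHom Q₂.asIdeal)
      intro hc
      refine Q₂.isPrime.ne_top (Ideal.eq_top_of_isUnit_mem _ hc ?_)
      show IsUnit (bι ((1 : B) ⊗ₜ[C] c))
      simpa [bι, ι] using (IsLocalization.Away.algebraMap_isUnit (S := C₂) c).map
        (Algebra.TensorProduct.includeRight : C₂ →ₐ[C] B ⊗[C] C₂))
    have hsw : ∀ u : A →ₐ[C] B,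
        (Algebra.TensorProduct.map u (AlgHom.id C C₂)).comp (Algebra.TensorProduct.map (AlgHom.id C A) ι) =
          bι.comp (Algebra.TensorProduct.map u (AlgHom.id C C₁)) := fun u =>
      Algebra.TensorProduct.ext' fun a x => by simp [bι]
    show ovMap σ _ ≫ ovMap σ _ ≫ ψ₁ = ovMap σ _ ≫ ovMap σ _ ≫ ψ₁
    rw [← Category.assoc, ← ovMap_comp, hsw s, ← Category.assoc (ovMap σ _) (ovMap σ _) ψ₁, ← ovMap_comp,
      hsw t, ovMap_comp, ovMap_comp, Category.assoc, Category.assoc]
    exact key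
  -- descend the ring map
  let g : CommRingCat.of Γ(V.left, ⊤) ⟶ CommRingCat.of (A ⊗[C] C₂) :=
    Spec.preimage (ψ₂.left ≫ V.left.isoSpec.hom)
  have hg : Spec.map g = ψ₂.left ≫ V.left.isoSpec.hom := Spec.map_preimage _
  have hgst : ∀ x, Algebra.TensorProduct.map s (AlgHom.id C C₂) (g.hom x) =
      Algebra.TensorProduct.map t (AlgHom.id C C₂) (g.hom x) := by
    have h1 : g ≫ CommRingCat.ofHom (Algebra.TensorProduct.map s (AlgHom.id C C₂)).toRingHom =
        g ≫ CommRingCat.ofHom (Algebra.TensorProduct.map t (AlgHom.id C C₂)).toRingHom := by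
      apply Spec.map_injective
      rw [Spec.map_comp, Spec.map_comp, hg]
      have h2 := congrArg (fun m => m.left ≫ V.left.isoSpec.hom) heq
      simpa using h2
    intro x
    exact congr($h1 x)
  choose h₀ hh₀ using fun x => mem_range_of_eq hfull C₂ (g.hom x) (hgst x)
  have hri := includeRight_injective (A := A) hinj C₂
  let hR : Γ(V.left, ⊤) →+* C₂ :=
    { toFun := h₀
      map_one' := hri (by rw [hh₀, map_one, map_one])
      map_mul' := fun x y => hri (by rw [hh₀, map_mul, map_mul, hh₀, hh₀])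
      map_zero' := hri (by rw [hh₀, map_zero, map_zero])
      map_add' := fun x y => hri (by rw [hh₀, map_add, map_add, hh₀, hh₀]) }
  let m : Spec (CommRingCat.of C₂) ⟶ V.left := Spec.map (CommRingCat.ofHom hR) ≫ V.left.isoSpec.inv
  have hm : Spec.map (CommRingCat.ofHom
      (Algebra.TensorProduct.includeRight : C₂ →ₐ[C] A ⊗[C] C₂).toRingHom) ≫ m = ψ₂.left := by
    rw [← Category.assoc, ← Spec.map_comp,
      show CommRingCat.ofHom hR ≫ CommRingCat.ofHom
        (Algebra.TensorProduct.includeRight : C₂ →ₐ[C] A ⊗[C] C₂).toRingHom = g from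
        CommRingCat.hom_ext (RingHom.ext hh₀), hg, Category.assoc, Iso.hom_inv_id, Category.comp_id]
  haveI := isIntegral_tensor_right (C := C) A C₂
  let mV : ov σ C₂ ⟶ V := Over.homMk m (by
    refine hom_ext_base (A := A ⊗[C] C₂) hri ?_
    show Spec.map _ ≫ m ≫ V.hom = Spec.map _ ≫ (ov σ C₂).hom
    rw [show CommRingCat.ofHom (algebraMap C₂ (A ⊗[C] C₂)) = CommRingCat.ofHom
      (Algebra.TensorProduct.includeRight : C₂ →ₐ[C] A ⊗[C] C₂).toRingHom from rfl, reassoc_of% hm,
      Over.w ψ₂]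
    exact (Over.w (ovMap σ (Algebra.TensorProduct.includeRight : C₂ →ₐ[C] A ⊗[C] C₂))).symm)
  refine ⟨(AlgSp.yon S₀).map mV ≫ p, ?_⟩
  rw [← Functor.map_comp_assoc,
    show ovMap σ (Algebra.TensorProduct.includeRight : C₂ →ₐ[C] A ⊗[C] C₂) ≫ mV = ψ₂ from
      Over.OverMorphism.ext hm]
  show (AlgSp.yon S₀).map (ovMap σ _ ≫ ψ₁) ≫ p = _
  rw [Functor.map_comp, Category.assoc, hψ₁, ← Functor.map_comp_assoc, ← ovMap_comp]
  congr 3
  exact AlgHom.ext fun a => by simp

end Groth.L24.AffQuot
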