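import Groth.Agent.L24.AffQuot.Local
import Groth.Agent.L24.St.MonoLocal

/-!
# The spectrum of the invariants is a categorical quotient among algebraic spaces
-/

set_option autoImplicit false
set_option linter.style.haveILetI false
set_option backward.isDefEq.respectTransparency false
set_option backward.isDefEq.respectTransparency.types false

universe u

open CategoryTheory CategoryTheory.Limits AlgebraicGeometry Opposite TensorProduct

noncomputable section

namespace Groth.L24.AffQuot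

attribute [local instance] Algebra.TensorProduct.rightAlgebra

variable {S₀ : Scheme.{u}} {C : Type u} [CommRing C] (σ : Spec (CommRingCat.of C) ⟶ S₀)
  {A B : Type u} [CommRing A] [CommRing B] [Algebra C A] [Algebra C B] [Algebra.IsIntegral C A]

/-- Uniqueness after a flat base change of the invariants. -/
theorem hom_ext_bc (hinj : Function.Injective (algebraMap C A)) (D : Type u) [CommRing D] [Algebra C D]
    [Module.Flat C D] {N : AlgSp.Sp S₀} (hN : AlgSp.IsAlgSpace N)
    {h h' : (AlgSp.yon S₀).obj (ov σ D) ⟶ N}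
    (w : (AlgSp.yon S₀).map (ovMap σ (Algebra.TensorProduct.includeRight : D →ₐ[C] A ⊗[C] D)) ≫ h =
      (AlgSp.yon S₀).map (ovMap σ (Algebra.TensorProduct.includeRight : D →ₐ[C] A ⊗[C] D)) ≫ h') :
    h = h' := by
  haveI := isIntegral_tensor_right (C := C) A D
  let σD : Spec (CommRingCat.of D) ⟶ S₀ := Spec.map (CommRingCat.ofHom (algebraMap C D)) ≫ σ
  let e : ov σD D ⟶ ov σ D := Over.homMk (𝟙 (Spec (CommRingCat.of D))) (by
    show 𝟙 _ ≫ Spec.map (CommRingCat.ofHom (algebraMap C D)) ≫ σ = Spec.map (CommRingCat.ofHom (algebraMap D D)) ≫ σD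
    rw [Category.id_comp, Algebra.algebraMap_self, CommRingCat.ofHom_id, Spec.map_id, Category.id_comp])
  have : IsIso ((Over.forget S₀).map e) := inferInstanceAs (IsIso (𝟙 (Spec (CommRingCat.of D))))
  have : IsIso e := isIso_of_reflects_iso e (Over.forget S₀)
  let e' : ov σD (A ⊗[C] D) ⟶ ov σ (A ⊗[C] D) := Over.homMk (𝟙 (Spec (CommRingCat.of (A ⊗[C] D)))) (by
    show 𝟙 (Spec (CommRingCat.of (A ⊗[C] D))) ≫ Spec.map (CommRingCat.ofHom (algebraMap C (A ⊗[C] D))) ≫ σ =
      Spec.map (CommRingCat.ofHom (algebraMap D (A ⊗[C] D))) ≫ Spec.map (CommRingCat.ofHom (algebraMap C D)) ≫ σ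
    rw [Category.id_comp, ← Spec.map_comp_assoc, ← CommRingCat.ofHom_comp,
      show (algebraMap D (A ⊗[C] D)).comp (algebraMap C D) = algebraMap C (A ⊗[C] D) from
        (Algebra.TensorProduct.includeRight : D →ₐ[C] A ⊗[C] D).comp_algebraMap])
  have he : ovMap σD (Algebra.ofId D (A ⊗[C] D)) ≫ e =
      e' ≫ ovMap σ (Algebra.TensorProduct.includeRight : D →ₐ[C] A ⊗[C] D) := by
    apply Over.OverMorphism.ext
    rw [Over.comp_left, Over.comp_left, ovMap_left, ovMap_left]
    show Spec.map (CommRingCat.ofHom (algebraMap D (A ⊗[C] D))) ≫ 𝟙 (Spec (CommRingCat.of D)) =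
      𝟙 (Spec (CommRingCat.of (A ⊗[C] D))) ≫ _
    rw [Category.comp_id, Category.id_comp]
    rfl
  rw [← cancel_epi ((AlgSp.yon S₀).map e)]
  refine hom_ext (A := A ⊗[C] D) σD (includeRight_injective hinj D) hN ?_
  rw [← Functor.map_comp_assoc, ← Functor.map_comp_assoc, he, Functor.map_comp, Category.assoc,
    Category.assoc, w]

/-- An invariant map to an algebraic space descends uniquely to the spectrum of the invariants. -/
theorem existsUnique_desc {s t : A →ₐ[C] B} (ht : (t : A →+* B).Finite)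
    (harr : ∀ (K : Type u) [Field K] [IsAlgClosed K] [Algebra C K] (z₀ z₁ : A →ₐ[C] K),
      ∃ r : B →ₐ[C] K, r.comp t = z₀ ∧ r.comp s = z₁)
    (hinj : Function.Injective (algebraMap C A))
    (hfull : ∀ a, s a = t a → ∃ c, algebraMap C A c = a)
    {N : AlgSp.Sp S₀} (hN : AlgSp.IsAlgSpace N) (φ : (AlgSp.yon S₀).obj (ov σ A) ⟶ N)
    (hφ : (AlgSp.yon S₀).map (ovMap σ s) ≫ φ = (AlgSp.yon S₀).map (ovMap σ t) ≫ φ) :
    ∃! h : (AlgSp.yon S₀).obj (ov σ C) ⟶ N,
      (AlgSp.yon S₀).map (ovMap σ (Algebra.ofId C A)) ≫ h = φ := by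
  refine existsUnique_of_exists_of_unique ?_ fun h h' e e' => hom_ext σ hinj hN (e.trans e'.symm)
  choose C' i₁ i₂ i₃ hq hh using exists_local σ ht harr hinj hfull hN φ hφ
  choose h hh using hh
  let v : ∀ q, ov σ (C' q) ⟶ ov σ C := fun q => ovMap σ (Algebra.ofId C (C' q))
  have hv : ∀ q, Etale (v q).left := fun q =>
    (HasRingHomProperty.Spec_iff (P := @Etale)).2 (RingHom.etale_algebraMap.2 (i₃ q))
  have h₁ : ∀ q, Flat (v q).left := fun q => by have := hv q; infer_instance
  have h₂ : ∀ q, LocallyOfFinitePresentation (v q).left := fun q => by have := hv q; infer_instance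
  have h₃ : ∀ y : ↥(ov σ C).left, ∃ q, y ∈ Set.range (v q).left := fun y => ⟨y, hq y⟩
  have hsh := (Presieve.isSheafFor_arrows_iff N.obj v).1
    ((Presieve.isSheafFor_iff_generate _).2 (((isSheaf_iff_isSheaf_of_type _ _).1 N.property) _
      (Groth.L24.St.generate_mem_J _ v h₁ h₂ h₃)))
  have hcompat : ∀ ⦃W : Over S₀⦄ ⦃i j⦄ (a : W ⟶ ov σ (C' i)) (b : W ⟶ ov σ (C' j)),
      a ≫ v i = b ≫ v j → (AlgSp.yon S₀).map a ≫ h i = (AlgSp.yon S₀).map b ≫ h j := by
    intro W i j a b w
    let inl : C' i →ₐ[C] C' i ⊗[C] C' j := Algebra.TensorProduct.includeLeft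
    let inr : C' j →ₐ[C] C' i ⊗[C] C' j := Algebra.TensorProduct.includeRight
    have sq := isPullback_SpecMap_of_isPushout _ _ _ _ (CommRingCat.isPushout_tensorProduct C (C' i) (C' j))
    let k₀ := sq.lift a.left b.left (congrArg CommaMorphism.left w)
    let k : W ⟶ ov σ (C' i ⊗[C] C' j) := Over.homMk k₀ (by
      rw [← Over.w (ovMap σ inl), ← Category.assoc]
      refine Eq.trans (congrArg (· ≫ (ov σ (C' i)).hom) ?_) (Over.w a)
      exact sq.lift_fst _ _ _)
    have hka : k ≫ ovMap σ inl = a := Over.OverMorphism.ext (sq.lift_fst _ _ _)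
    have hkb : k ≫ ovMap σ inr = b := Over.OverMorphism.ext (sq.lift_snd _ _ _)
    rw [← hka, ← hkb, Functor.map_comp, Functor.map_comp, Category.assoc, Category.assoc]
    congr 1
    refine hom_ext_bc (A := A) σ hinj (C' i ⊗[C] C' j) hN ?_
    have key : ∀ (l : PrimeSpectrum C) (u : C' l →ₐ[C] C' i ⊗[C] C' j),
        (AlgSp.yon S₀).map (ovMap σ (Algebra.TensorProduct.includeRight :
            C' i ⊗[C] C' j →ₐ[C] A ⊗[C] (C' i ⊗[C] C' j))) ≫ (AlgSp.yon S₀).map (ovMap σ u) ≫ h l =
          (AlgSp.yon S₀).map (ovMap σ (Algebra.TensorProduct.includeLeft :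
            A →ₐ[C] A ⊗[C] (C' i ⊗[C] C' j))) ≫ φ := by
      intro l u
      rw [← Functor.map_comp_assoc, ← ovMap_comp,
        show (Algebra.TensorProduct.includeRight : C' i ⊗[C] C' j →ₐ[C] A ⊗[C] (C' i ⊗[C] C' j)).comp u =
          (Algebra.TensorProduct.map (AlgHom.id C A) u).comp Algebra.TensorProduct.includeRight from
          AlgHom.ext fun x => by simp,
        ovMap_comp, Functor.map_comp, Category.assoc, hh, ← Functor.map_comp_assoc, ← ovMap_comp]
      congr 3
      exact AlgHom.ext fun x => by simp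
    rw [key, key]
  obtain ⟨sec, hsec, -⟩ := hsh (fun q => (AlgSp.J S₀).uliftYonedaEquiv.{u + 1} (h q)) (fun i j W a b w => by
    rw [GrothendieckTopology.uliftYonedaEquiv_naturality, GrothendieckTopology.uliftYonedaEquiv_naturality]
    exact congrArg _ (hcompat a b w))
  let l : (AlgSp.yon S₀).obj (ov σ C) ⟶ N := (AlgSp.J S₀).uliftYonedaEquiv.{u + 1}.symm sec
  have hl : ∀ q, (AlgSp.yon S₀).map (v q) ≫ l = h q := fun q => by
    apply (AlgSp.J S₀).uliftYonedaEquiv.{u + 1}.injective
    rw [← GrothendieckTopology.uliftYonedaEquiv_naturality, Equiv.apply_symm_apply]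
    exact hsec q
  refine ⟨l, ?_⟩
  let v' : ∀ q, ov σ (A ⊗[C] C' q) ⟶ ov σ A := fun q =>
    ovMap σ (Algebra.TensorProduct.includeLeft : A →ₐ[C] A ⊗[C] C' q)
  have hv' : ∀ q, Etale (v' q).left := fun q =>
    (HasRingHomProperty.Spec_iff (P := @Etale)).2
      (RingHom.etale_algebraMap.2 (inferInstanceAs (Algebra.Etale A (A ⊗[C] C' q))))
  refine Groth.L24.St.hom_ext_of_cover _ v' (fun q => ?_) (fun q => ?_) (fun y => ?_) fun q => ?_
  · have := hv' q; infer_instance
  · have := hv' q; infer_instance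
  · let q := (ovMap σ (Algebra.ofId C A)).left y
    obtain ⟨y', hy'⟩ := hq q
    have sq := isPullback_SpecMap_of_isPushout _ _ _ _ (CommRingCat.isPushout_tensorProduct C A (C' q))
    obtain ⟨t, ht₁, -⟩ := Scheme.Pullback.exists_preimage_pullback
      (f := Spec.map (CommRingCat.ofHom (algebraMap C A)))
      (g := Spec.map (CommRingCat.ofHom (algebraMap C (C' q)))) y y' hy'.symm
    refine ⟨q, sq.isoPullback.inv t, ?_⟩
    show (Spec.map _) (sq.isoPullback.inv t) = y
    rw [← Scheme.Hom.comp_apply]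
    exact (congrArg (fun (m : pullback (Spec.map (CommRingCat.ofHom (algebraMap C A)))
      (Spec.map (CommRingCat.ofHom (algebraMap C (C' q)))) ⟶ Spec (CommRingCat.of A)) => m t)
      sq.isoPullback_inv_fst).trans ht₁
  · rw [← Functor.map_comp_assoc, ← ovMap_comp,
      show (Algebra.TensorProduct.includeLeft : A →ₐ[C] A ⊗[C] C' q).comp (Algebra.ofId C A) =
        (Algebra.TensorProduct.includeRight : C' q →ₐ[C] A ⊗[C] C' q).comp (Algebra.ofId C (C' q)) from
        Subsingleton.elim _ _,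
      ovMap_comp, Functor.map_comp, Category.assoc, hl, hh]

end Groth.L24.AffQuot
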