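import Groth.Agent.L05.Hensel.Homs
import Groth.Agent.L05.Hensel.IntegralDomain
import Mathlib.RingTheory.Etale.Pi
import Mathlib.RingTheory.Artinian.Module
import Mathlib.FieldTheory.IsAlgClosed.Basic

/-!
# Etale algebras over semilocal integral algebras over strictly henselian rings
-/

set_option autoImplicit false
set_option linter.style.haveILetI false

universe u

open IsLocalRing TensorProduct

namespace Groth.L24.AffQuot

/-- Homomorphisms from a finite algebra to a field form a finite set. -/
theorem finite_algHom {A B : Type u} [CommRing A] [CommRing B] [Algebra A B] [Module.Finite A B]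
    (K : Type u) [Field K] [Algebra A K] : Finite (B →ₐ[A] K) := by
  have hK : Finite (K ⊗[A] B →ₐ[K] K) := by
    have : IsArtinianRing (K ⊗[A] B) := IsArtinianRing.of_finite K _
    refine Finite.of_injective (fun f => (⟨RingHom.ker f, RingHom.ker_isPrime f⟩ :
      PrimeSpectrum (K ⊗[A] B))) fun f g h => ?_
    have h' : RingHom.ker f = RingHom.ker g := congrArg PrimeSpectrum.asIdeal h
    ext1
    refine AlgHom.ext fun x => ?_
    have hx : (1 : K) ⊗ₜ[A] x - algebraMap K _ (f (1 ⊗ₜ x)) ∈ RingHom.ker f := by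
      rw [RingHom.mem_ker, map_sub, AlgHom.commutes, Algebra.algebraMap_self_apply, sub_self]
    rw [h', RingHom.mem_ker, map_sub, AlgHom.commutes, Algebra.algebraMap_self_apply, sub_eq_zero] at hx
    simpa using hx.symm
  refine Finite.of_injective (fun f : B →ₐ[A] K =>
    (Algebra.TensorProduct.lift (AlgHom.id K K) f fun _ _ => Commute.all _ _ : K ⊗[A] B →ₐ[K] K))
    fun f g h => AlgHom.ext fun x => ?_
  simpa using congr($h ((1 : K) ⊗ₜ[A] x))

variable {S D : Type u} [CommRing S] [HenselianLocalRing S] [CommRing D] [Algebra S D]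
  [Algebra.IsIntegral S D]

theorem comap_eq_maximalIdeal (P : Ideal D) [P.IsMaximal] :
    P.comap (algebraMap S D) = maximalIdeal S :=
  eq_maximalIdeal (Ideal.isMaximal_comap_of_isIntegral_of_isMaximal (R := S) P)

variable (K : Type u) [Field K] [Algebra S K] [Algebra (ResidueField S) K]
  [IsScalarTower S (ResidueField S) K]

/-- A homomorphism to a field algebraic over the residue field has maximal kernel. -/
theorem isMaximal_ker (z : D →ₐ[S] K) : (RingHom.ker z).IsMaximal := by
  haveI := RingHom.ker_isPrime z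
  refine Ideal.isMaximal_of_isIntegral_of_isMaximal_comap (R := S) _ ?_
  have : (RingHom.ker z).comap (algebraMap S D) = maximalIdeal S := by
    ext s
    rw [Ideal.mem_comap, RingHom.mem_ker, AlgHom.commutes,
      IsScalarTower.algebraMap_apply S (ResidueField S) K, map_eq_zero, ResidueField.algebraMap_eq,
      residue_eq_zero_iff]
  rw [this]
  exact maximalIdeal.isMaximal S

/-- The residue field at a maximal ideal as an algebra over the residue field of the base. -/
noncomputable abbrev quotAlgebra (P : Ideal D) [P.IsMaximal] : Algebra (ResidueField S) (D ⧸ P) :=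
  (Ideal.Quotient.lift (maximalIdeal S) ((Ideal.Quotient.mk P).comp (algebraMap S D)) fun a ha => by
    rw [RingHom.comp_apply, Ideal.Quotient.eq_zero_iff_mem]
    rw [← comap_eq_maximalIdeal (S := S) P] at ha
    exact ha).toAlgebra

theorem quot_isScalarTower (P : Ideal D) [P.IsMaximal] :
    letI := quotAlgebra (S := S) P
    IsScalarTower S (ResidueField S) (D ⧸ P) :=
  letI := quotAlgebra (S := S) P
  IsScalarTower.of_algebraMap_eq fun _ => rfl

variable [IsSepClosed (ResidueField S)]

/-- Homomorphisms to a field with the same kernel agree. -/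
theorem eq_of_ker_eq {z z' : D →ₐ[S] K} (h : RingHom.ker z = RingHom.ker z') : z = z' := by
  haveI := isMaximal_ker K z
  let P := RingHom.ker z
  letI := Ideal.Quotient.field P
  letI := quotAlgebra (S := S) P
  haveI := quot_isScalarTower (S := S) P
  haveI : Algebra.IsIntegral (ResidueField S) (D ⧸ P) :=
    ⟨fun x => (Algebra.IsIntegral.isIntegral (R := S) x).tower_top⟩
  haveI : Algebra.IsAlgebraic (ResidueField S) (D ⧸ P) := inferInstance
  haveI := Groth.L05.isPurelyInseparable_of_isSepClosed_base (ResidueField S) (D ⧸ P)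
  have hmk : ∀ w : D →ₐ[S] K, (hw : P ≤ RingHom.ker w) →
      ∃ f : (D ⧸ P) →ₐ[ResidueField S] K, ∀ x, f (Ideal.Quotient.mk P x) = w x := fun w hw =>
    ⟨{ toRingHom := Ideal.Quotient.lift P (w : D →+* K) hw
       commutes' := fun r => by
        obtain ⟨r, rfl⟩ := residue_surjective r
        show (w : D →+* K) (algebraMap S D r) = algebraMap (ResidueField S) K (residue S r)
        rw [← ResidueField.algebraMap_eq, ← IsScalarTower.algebraMap_apply]
        exact w.commutes r }, fun x => rfl⟩
  obtain ⟨f, hf⟩ := hmk z le_rfl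
  obtain ⟨f', hf'⟩ := hmk z' h.le
  exact AlgHom.ext fun x => by rw [← hf, ← hf', Subsingleton.elim f f']

/-- Every maximal ideal is the kernel of a homomorphism to an algebraically closed field. -/
theorem exists_hom_of_isMaximal [IsAlgClosed K] (P : Ideal D) [P.IsMaximal] :
    ∃ z : D →ₐ[S] K, RingHom.ker z = P := by
  letI := Ideal.Quotient.field P
  letI := quotAlgebra (S := S) P
  haveI := quot_isScalarTower (S := S) P
  haveI : Algebra.IsIntegral (ResidueField S) (D ⧸ P) :=
    ⟨fun x => (Algebra.IsIntegral.isIntegral (R := S) x).tower_top⟩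
  haveI : Algebra.IsAlgebraic (ResidueField S) (D ⧸ P) := inferInstance
  let f : (D ⧸ P) →ₐ[ResidueField S] K := IsAlgClosed.lift
  refine ⟨(f.restrictScalars S).comp (Ideal.Quotient.mkₐ S P), ?_⟩
  ext x
  simp only [RingHom.mem_ker, AlgHom.coe_comp, Function.comp_apply, AlgHom.coe_restrictScalars',
    Ideal.Quotient.mkₐ_eq_mk, map_eq_zero, Ideal.Quotient.eq_zero_iff_mem]

/-- A geometric point of an etale algebra over a maximal ideal is rational. -/
theorem exists_residue_hom {A E : Type u} [CommRing A] [CommRing E] [Algebra A D] [Algebra A E]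
    [Algebra.Etale A E] (z : D →ₐ[S] K) (w : E →+* K)
    (hw : ∀ a, w (algebraMap A E a) = z (algebraMap A D a)) :
    ∃ ω : E →ₐ[A] D ⧸ RingHom.ker z, ∀ e x, ω e = Ideal.Quotient.mk _ x → w e = z x := by
  haveI := isMaximal_ker K z
  let P := RingHom.ker z
  letI := Ideal.Quotient.field P
  letI := quotAlgebra (S := S) P
  haveI := quot_isScalarTower (S := S) P
  haveI : Algebra.IsIntegral (ResidueField S) (D ⧸ P) :=
    ⟨fun x => (Algebra.IsIntegral.isIntegral (R := S) x).tower_top⟩
  haveI : Algebra.IsAlgebraic (ResidueField S) (D ⧸ P) := inferInstance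
  haveI := Groth.L05.isSepClosed_of_algebraic (ResidueField S) (D ⧸ P)
  let zb : D ⧸ P →+* K := Ideal.Quotient.lift P (z : D →+* K) fun _ h => h
  letI : Algebra (D ⧸ P) K := zb.toAlgebra
  letI : Algebra A K := (zb.comp (algebraMap A (D ⧸ P))).toAlgebra
  haveI : IsScalarTower A (D ⧸ P) K := IsScalarTower.of_algebraMap_eq' rfl
  let wA : E →ₐ[A] K := { toRingHom := w, commutes' := hw }
  let p : (D ⧸ P) ⊗[A] E →ₐ[D ⧸ P] K :=
    Algebra.TensorProduct.lift (Algebra.ofId (D ⧸ P) K) wA fun _ _ => Commute.all _ _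
  have hp : ∀ e : E, p (1 ⊗ₜ e) = w e := fun e => by
    simp [p, wA]
  have hy : ∀ e : E, ∃ y : D ⧸ P, zb y = w e := fun e => by
    obtain ⟨y, hy⟩ := Groth.L05.exists_point_of_isSepClosed p (1 ⊗ₜ e)
    exact ⟨y, hy.trans (hp e)⟩
  choose y hy using hy
  have hinj : Function.Injective zb := zb.injective
  refine ⟨{ toFun := y
            map_one' := hinj (by rw [hy, map_one, map_one])
            map_mul' := fun a b => hinj (by rw [hy, map_mul, map_mul, hy, hy])
            map_zero' := hinj (by rw [hy, map_zero, map_zero])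
            map_add' := fun a b => hinj (by rw [hy, map_add, map_add, hy, hy])
            commutes' := fun a => hinj (by rw [hy]; exact hw a) }, fun e x hx => ?_⟩
  have h1 := hy e
  rw [show y e = Ideal.Quotient.mk P x from hx] at h1
  exact h1.symm

/-- Lifting from the closed fibre of a semilocal integral algebra to the algebra. -/
theorem exists_lift_semilocal (S : Type u) {D : Type u} [CommRing S] [HenselianLocalRing S] [CommRing D]
    [Algebra S D] [Algebra.IsIntegral S D] {A : Type u} [CommRing A] [Algebra A D]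
    [Fintype (MaximalSpectrum D)] (E : MaximalSpectrum D → Type u) [∀ P, CommRing (E P)]
    [∀ P, Algebra A (E P)] [∀ P, Algebra.Etale A (E P)]
    (ω : ∀ P, E P →ₐ[A] D ⧸ P.asIdeal) :
    ∃ τ : (∀ P, E P) →ₐ[A] D, ∀ P e, Ideal.Quotient.mk P.asIdeal (τ e) = ω P (e P) := by
  let I := ((maximalIdeal S).map (algebraMap S D)).radical
  haveI := Groth.L05.henselianRing_map_of_isIntegral (maximalIdeal S) D
  haveI : HenselianRing D I :=
    Groth.L05.henselianRing_radical ((maximalIdeal S).map (algebraMap S D))
  let π : D →ₐ[A] ∀ P : MaximalSpectrum D, D ⧸ P.asIdeal :=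
    AlgHom.pi fun P => Ideal.Quotient.mkₐ A P.asIdeal
  have hπ : Function.Surjective π := fun v => by
    choose v' hv' using fun P => Ideal.Quotient.mk_surjective (v P)
    obtain ⟨d, hd⟩ := Ideal.exists_forall_sub_mem_ideal
      (I := fun P : MaximalSpectrum D => P.asIdeal) (fun P Q h => Ideal.isCoprime_iff_sup_eq.2
        (P.isMaximal.coprime_of_ne Q.isMaximal (fun e => h (MaximalSpectrum.ext e)))) v'
    exact ⟨d, funext fun P => (Ideal.Quotient.eq.2 (hd P)).trans (hv' P)⟩
  have hker : RingHom.ker π = I := by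
    ext x
    have h0 : π x = 0 ↔ ∀ P : MaximalSpectrum D, x ∈ P.asIdeal :=
      ⟨fun h P => Ideal.Quotient.eq_zero_iff_mem.1 (congrFun h P),
        fun h => funext fun P => Ideal.Quotient.eq_zero_iff_mem.2 (h P)⟩
    rw [RingHom.mem_ker, h0]
    simp only [I, Ideal.radical_eq_sInf, Ideal.mem_sInf, Set.mem_ofPred_eq]
    constructor
    · rintro h P ⟨hP, hPp⟩
      haveI : (P.comap (algebraMap S D)).IsMaximal := by
        have := (maximalIdeal.isMaximal S).eq_of_le (Ideal.comap_ne_top _ hPp.ne_top)
          (Ideal.map_le_iff_le_comap.1 hP)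
        exact this ▸ maximalIdeal.isMaximal S
      exact h ⟨P, Ideal.isMaximal_of_isIntegral_of_isMaximal_comap (R := S) P ‹_›⟩
    · intro h P
      haveI := P.isMaximal
      exact h ⟨Ideal.map_le_iff_le_comap.2 (comap_eq_maximalIdeal (S := S) P.asIdeal).ge,
        P.isMaximal.isPrime⟩
  let e : (D ⧸ RingHom.ker π) ≃ₐ[A] ∀ P : MaximalSpectrum D, D ⧸ P.asIdeal :=
    Ideal.quotientKerAlgEquivOfSurjective hπ
  haveI : HenselianRing D (RingHom.ker π) := by rw [hker]; infer_instance
  let σ0 : (∀ P, E P) →ₐ[A] ∀ P : MaximalSpectrum D, D ⧸ P.asIdeal :=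
    AlgHom.pi fun P => (ω P).comp (Pi.evalAlgHom A E P)
  obtain ⟨τ, hτ, -⟩ := Groth.L05.existsUnique_algHom_lift_etale (RingHom.ker π)
    (e.symm.toAlgHom.comp σ0)
  refine ⟨τ, fun P x => ?_⟩
  have h1 : e (Ideal.Quotient.mk _ (τ x)) = σ0 x := by
    have := congr($hτ x)
    simp only [AlgHom.coe_comp, Function.comp_apply, Ideal.Quotient.mkₐ_eq_mk] at this
    rw [this]
    exact e.apply_symm_apply _
  exact congrFun h1 P

end Groth.L24.AffQuot
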