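import Groth.Agent.L27.EtSite.SplitCover

/-!
# Maps from finitely presented algebras to ind-etale extensions come from a finite stage
-/

universe u

open CategoryTheory CategoryTheory.Limits TensorProduct

set_option linter.style.haveILetI false
set_option backward.isDefEq.respectTransparency false
set_option backward.isDefEq.respectTransparency.types false

namespace Groth.L24.AffQuot

theorem exists_stage {C A E S : Type u} [CommRing C] [CommRing A] [CommRing E] [CommRing S]
    [Algebra C A] [Algebra A E] [Algebra.FinitePresentation A E] (f : C →+* S) :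
    letI := f.toAlgebra
    ∀ (_ : EtPBC.IsIndEtale C S) (τ : E →ₐ[A] A ⊗[C] S),
      ∃ (C' : Type u) (_ : CommRing C') (_ : Algebra C C') (_ : Algebra.Etale C C')
        (β : C' →ₐ[C] S) (τ' : E →ₐ[A] A ⊗[C] C'),
        (Algebra.TensorProduct.map (AlgHom.id A A) β).comp τ' = τ := by
  letI := f.toAlgebra
  intro hind τ
  obtain ⟨J, _, _, D, c, hc, hD, ⟨e⟩⟩ := hind
  let F : Under (CommRingCat.of C) ⥤ Under (CommRingCat.of A) :=
    CommRingCat.tensorProd (CommRingCat.of C) (CommRingCat.of A)
  haveI : PreservesColimitsOfShape J F := by
    haveI : PreservesColimitsOfShape J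
        (Under.pushout (CommRingCat.ofHom (algebraMap (CommRingCat.of C) (CommRingCat.of A)))) :=
      (Under.mapPushoutAdj _).leftAdjoint_preservesColimits.preservesColimitsOfShape
    exact preservesColimitsOfShape_of_natIso (CommRingCat.tensorProdIsoPushout _ _).symm
  let c' := (Under.forget (CommRingCat.of A)).mapCocone (F.mapCocone c)
  have hc' : IsColimit c' := isColimitOfPreserves _ (isColimitOfPreserves F hc)
  let g' : CommRingCat.of E ⟶ c'.pt := CommRingCat.ofHom τ.toRingHom ≫ (F.map e.inv).right
  obtain ⟨j, qj, hq₁, hq₂⟩ := MorphismProperty.exists_hom_of_isFinitelyPresentable hc'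
    (CommRingCat.isFinitelyPresentable_hom (CommRingCat.ofHom (algebraMap A E))
      (RingHom.finitePresentation_algebraMap.mpr inferInstance))
    { app := fun j => (F.obj (D.obj j)).hom
      naturality := fun i j h => by
        simp only [Functor.const_obj_obj, Functor.const_obj_map]
        exact (Under.w (F.map (D.map h))).symm }
    g' (fun j => by
      refine (Under.w (F.map (c.ι.app j))).trans ?_
      refine ((congrArg (· ≫ (F.map e.inv).right) ?_).trans (Category.assoc _ _ _)) |> (Under.w (F.map e.inv)).symm.trans
      exact CommRingCat.hom_ext (RingHom.ext fun b => (τ.commutes b).symm))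
  letI : Algebra C (D.obj j).right := (D.obj j).hom.hom.toAlgebra
  haveI : Algebra.Etale C (D.obj j).right := hD j
  let β : (D.obj j).right →ₐ[C] S :=
    { toRingHom := (c.ι.app j ≫ e.hom).right.hom
      commutes' := fun a => congr($(Under.w (c.ι.app j ≫ e.hom)).hom a) }
  refine ⟨(D.obj j).right, inferInstance, inferInstance, inferInstance, β,
    { toRingHom := qj.hom, commutes' := fun b => congr($(hq₁).hom b) }, AlgHom.ext fun x => ?_⟩
  have h : (F.map (c.ι.app j ≫ e.hom)).right.hom (qj.hom x) = τ x := by
    have h1 := congr($(hq₂).hom x)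
    have h2 := congrArg (F.map e.hom).right.hom h1
    have h3 : (F.map e.hom).right.hom ((F.map e.inv).right.hom (τ x)) = τ x := by
      show ((F.map e.inv ≫ F.map e.hom).right).hom (τ x) = τ x
      rw [← F.map_comp, e.inv_hom_id, F.map_id]
      rfl
    rw [F.map_comp]
    exact h2.trans h3
  exact h

end Groth.L24.AffQuot
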