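import Groth.Agent.L24.AffQuot.Data
import Groth.Agent.L24.AffQuot.Semilocal
import Groth.Agent.L24.AffQuot.Stage
import Groth.Agent.L24.Hensel.PointChart
import Groth.Agent.L23.ThickSplit

/-!
# Lifting to an etale chart over a strictly henselian base
-/

set_option autoImplicit false
set_option linter.style.haveILetI false
set_option backward.isDefEq.respectTransparency false
set_option backward.isDefEq.respectTransparency.types false

universe u

open CategoryTheory CategoryTheory.Limits AlgebraicGeometry Opposite TensorProduct IsLocalRing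

noncomputable section

namespace Groth.L24.AffQuot

attribute [local instance] Algebra.TensorProduct.rightAlgebra

variable {S₀ : Scheme.{u}} {C : Type u} [CommRing C]

/-- The equalizer of two lifts to an etale chart is open. -/
theorem exists_open_eq {N : AlgSp.Sp S₀} {V : Over S₀} {p : (AlgSp.yon S₀).obj V ⟶ N}
    (hp : AlgSp.RepWith @Etale p) {T : Over S₀} (a b : T ⟶ V)
    (w : (AlgSp.yon S₀).map a ≫ p = (AlgSp.yon S₀).map b ≫ p) :
    ∃ O : T.left.Opens,
      (∀ {T' : Over S₀} (k : T' ⟶ T), Set.range k.left ⊆ O → k ≫ a = k ≫ b) ∧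
      (∀ {T' : Over S₀} (k : T' ⟶ T) (t : T'.left), k ≫ a = k ≫ b → k.left t ∈ O) := by
  obtain ⟨R, r₁, r₂, sq⟩ := Groth.L23.exists_isPullback_of_representable hp.1 p
  have hr₂ : Etale r₂.left := hp.2 _ _ _ sq
  obtain ⟨δ, hδ₁, hδ₂⟩ := Groth.L23.exists_lift_yon sq (𝟙 V) (𝟙 V) rfl
  obtain ⟨L, hL₁, hL₂⟩ := Groth.L23.exists_lift_yon sq a b w
  have e2 : δ.left ≫ r₂.left = 𝟙 V.left := congrArg CommaMorphism.left hδ₂
  have : Etale (δ.left ≫ r₂.left) := by rw [e2]; infer_instance
  have : Etale δ.left := Etale.of_comp _ r₂.left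
  have : Mono (δ.left ≫ r₂.left) := by rw [e2]; infer_instance
  have : Mono δ.left := mono_of_mono δ.left r₂.left
  have hδo : IsOpenImmersion δ.left := Groth.L23.isOpenImmersion_of_etale_univInjective δ.left
  refine ⟨L.left ⁻¹ᵁ δ.left.opensRange, fun {T'} k hk => ?_, fun {T'} k t hk => ?_⟩
  · let l := IsOpenImmersion.lift δ.left (k.left ≫ L.left) (by
      rintro _ ⟨t, rfl⟩
      rw [Scheme.Hom.comp_apply]
      exact hk ⟨t, rfl⟩)
    let l' : T' ⟶ V := Over.homMk l (by
      rw [← Over.w δ, IsOpenImmersion.lift_fac_assoc, Category.assoc, Over.w L, Over.w k])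
    have hl : l' ≫ δ = k ≫ L := Over.OverMorphism.ext (IsOpenImmersion.lift_fac _ _ _)
    rw [← hL₁, ← hL₂, ← Category.assoc, ← Category.assoc, ← hl, Category.assoc, Category.assoc, hδ₁, hδ₂]
  · have hl : k ≫ L = (k ≫ a) ≫ δ := by
      apply (AlgSp.yon S₀).map_injective
      refine sq.hom_ext ?_ ?_
      · rw [← Functor.map_comp, ← Functor.map_comp, Category.assoc, hL₁, Category.assoc, hδ₁,
          Category.comp_id]
      · rw [← Functor.map_comp, ← Functor.map_comp, Category.assoc, hL₂, Category.assoc, hδ₂,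
          Category.comp_id, hk]
    refine ⟨(k ≫ a).left t, ?_⟩
    rw [← Scheme.Hom.comp_apply, ← Scheme.Hom.comp_apply]
    exact (congrArg (fun m : T' ⟶ R => m.left t) hl).symm

/-- A prime of an integral algebra is the kernel of a point over a given geometric point of the base. -/
theorem exists_point_of_prime {R T : Type u} [CommRing R] [CommRing T] [Algebra R T]
    [Algebra.IsIntegral R T] {K : Type u} [Field K] [IsAlgClosed K] (f : R →+* K)
    (Q : Ideal T) [Q.IsPrime] (hQ : Q.comap (algebraMap R T) = RingHom.ker f) :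
    ∃ ρ : T →+* K, ρ.comp (algebraMap R T) = f ∧ RingHom.ker ρ = Q := by
  let q := Q.comap (algebraMap R T)
  letI : Algebra (R ⧸ q) K := (Ideal.Quotient.lift q f fun x hx => by
    rw [← RingHom.mem_ker, ← hQ]; exact hx).toAlgebra
  haveI : FaithfulSMul (R ⧸ q) K := (faithfulSMul_iff_algebraMap_injective _ _).2 (by
    intro x y hxy
    obtain ⟨x, rfl⟩ := Ideal.Quotient.mk_surjective x
    obtain ⟨y, rfl⟩ := Ideal.Quotient.mk_surjective y
    rw [Ideal.Quotient.eq, show q = RingHom.ker f from hQ, RingHom.mem_ker, map_sub, sub_eq_zero]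
    exact hxy)
  haveI : FaithfulSMul (R ⧸ q) (T ⧸ Q) :=
    (faithfulSMul_iff_algebraMap_injective _ _).2 Ideal.algebraMap_quotient_injective
  haveI : Algebra.IsIntegral (R ⧸ q) (T ⧸ Q) := inferInstance
  haveI : Algebra.IsAlgebraic (R ⧸ q) (T ⧸ Q) := inferInstance
  let g : (T ⧸ Q) →ₐ[R ⧸ q] K := IsAlgClosed.lift
  refine ⟨g.toRingHom.comp (Ideal.Quotient.mk Q), RingHom.ext fun r => ?_, ?_⟩
  · exact g.commutes (Ideal.Quotient.mk q r)
  · have hg : RingHom.ker g = ⊥ := by
      haveI := RingHom.ker_isPrime g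
      refine Ideal.eq_bot_of_comap_eq_bot (R := R ⧸ q) ?_
      rw [eq_bot_iff]
      intro x hx
      rw [Ideal.mem_comap, RingHom.mem_ker, AlgHom.commutes] at hx
      exact FaithfulSMul.algebraMap_injective (R ⧸ q) K (hx.trans (map_zero _).symm)
    ext x
    rw [RingHom.mem_ker, RingHom.comp_apply, ← Ideal.Quotient.eq_zero_iff_mem]
    refine ⟨fun h => ?_, fun h => by rw [h]; exact map_zero _⟩
    have : Ideal.Quotient.mk Q x ∈ RingHom.ker g := h
    rw [hg] at this
    exact this

variable (σ : Spec (CommRingCat.of C) ⟶ S₀) {A B : Type u} [CommRing A] [CommRing B]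
  [Algebra C A] [Algebra C B] [Algebra.IsIntegral C A]

/-- Over a strictly henselian base a map invariant under the groupoid lifts to a chart compatibly
with all geometric points. -/
theorem exists_chart {s t : A →ₐ[C] B} (ht : (t : A →+* B).Finite)
    (harr : ∀ (K : Type u) [Field K] [IsAlgClosed K] [Algebra C K] (z₀ z₁ : A →ₐ[C] K),
      ∃ r : B →ₐ[C] K, r.comp t = z₀ ∧ r.comp s = z₁)
    (hinj : Function.Injective (algebraMap C A))
    {N : AlgSp.Sp S₀} (hN : AlgSp.IsAlgSpace N) (φ : (AlgSp.yon S₀).obj (ov σ A) ⟶ N)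
    (hφ : (AlgSp.yon S₀).map (ovMap σ s) ≫ φ = (AlgSp.yon S₀).map (ovMap σ t) ≫ φ)
    (S : Type u) [CommRing S] [HenselianLocalRing S] [IsSepClosed (ResidueField S)] [Algebra C S]
    [Module.Flat C S] (K : Type u) [Field K] [IsAlgClosed K] [Algebra C K] [Algebra S K]
    [Algebra (ResidueField S) K] [IsScalarTower S (ResidueField S) K] [IsScalarTower C S K] :
    ∃ (V : Over S₀) (p : (AlgSp.yon S₀).obj V ⟶ N) (_ : IsAffine V.left) (_ : AlgSp.RepWith @Etale p)
      (E : Type u) (_ : CommRing E) (_ : Algebra A E) (_ : Algebra C E) (_ : IsScalarTower C A E)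
      (_ : Algebra.FinitePresentation A E) (τ : E →ₐ[A] A ⊗[C] S) (γ : ov σ E ⟶ V) (v₀ : ov σ K ⟶ V),
      (AlgSp.yon S₀).map γ ≫ p = (AlgSp.yon S₀).map (ovMap σ (IsScalarTower.toAlgHom C A E)) ≫ φ ∧
      ∀ z : A ⊗[C] S →ₐ[S] K,
        ovMap σ ((z.restrictScalars C).comp (τ.restrictScalars C)) ≫ γ = v₀ := by
  classical
  let D := A ⊗[C] S
  haveI : Algebra.IsIntegral S D := by
    refine ⟨fun x => ?_⟩
    obtain ⟨y, rfl⟩ := (Algebra.TensorProduct.commRight C S A).surjective x
    exact (Algebra.IsIntegral.isIntegral y).map (Algebra.TensorProduct.commRight C S A).toAlgHom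
  haveI : Nontrivial D := (includeRight_injective hinj S).nontrivial
  obtain ⟨P₀, hP₀⟩ := Ideal.exists_maximal D
  obtain ⟨z₀, -⟩ := exists_hom_of_isMaximal (S := S) K P₀
  let res : (D →ₐ[S] K) → (A →ₐ[C] K) := fun z =>
    (z.restrictScalars C).comp Algebra.TensorProduct.includeLeft
  have hres : Function.Injective res := fun z z' h => by
    have h2 : z.restrictScalars C = z'.restrictScalars C := by
      refine Algebra.TensorProduct.ext' fun a x => ?_
      have ha : z (a ⊗ₜ[C] (1 : S)) = z' (a ⊗ₜ[C] (1 : S)) := congr($h a)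
      have hx : z ((1 : A) ⊗ₜ[C] x) = z' ((1 : A) ⊗ₜ[C] x) := (z.commutes x).trans (z'.commutes x).symm
      show z (a ⊗ₜ[C] x) = z' (a ⊗ₜ[C] x)
      rw [show a ⊗ₜ[C] x = (a ⊗ₜ[C] (1 : S)) * ((1 : A) ⊗ₜ[C] x) by simp, map_mul, map_mul, ha, hx]
    exact AlgHom.ext fun x => congr($h2 x)
  -- finitely many maximal ideals
  haveI hfin : Finite (MaximalSpectrum D) := by
    letI := (t : A →+* B).toAlgebra
    letI := (res z₀).toRingHom.toAlgebra
    haveI : Module.Finite A B := ht
    haveI := finite_algHom (A := A) (B := B) K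
    choose z hz using fun P : MaximalSpectrum D =>
      have := P.isMaximal
      exists_hom_of_isMaximal (S := S) K P.asIdeal
    choose r hr₀ hr₁ using fun P : MaximalSpectrum D => harr K (res z₀) (res (z P))
    let rA : MaximalSpectrum D → (B →ₐ[A] K) := fun P =>
      { toRingHom := (r P).toRingHom
        commutes' := fun a => DFunLike.congr_fun (hr₀ P) a }
    refine Finite.of_injective rA fun P Q h => MaximalSpectrum.ext ?_
    rw [← hz P, ← hz Q]
    refine congrArg (fun w : D →ₐ[S] K => RingHom.ker w) (hres ?_)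
    rw [← hr₁ P, ← hr₁ Q]
    exact AlgHom.ext fun a => DFunLike.congr_fun h (s a)
  letI := Fintype.ofFinite (MaximalSpectrum D)
  -- the chart
  obtain ⟨V, p, v₀, hV, hp, hv₀⟩ := Groth.L24.Hensel.exists_etale_lift_field hN (TK := ov σ K)
    (Iso.refl _) ((AlgSp.yon S₀).map (ovMap σ (res z₀)) ≫ φ)
  have hsame : ∀ z : D →ₐ[S] K, (AlgSp.yon S₀).map (ovMap σ (res z)) ≫ φ =
      (AlgSp.yon S₀).map v₀ ≫ p := by
    intro z
    obtain ⟨r, hr₀, hr₁⟩ := harr K (res z₀) (res z)
    rw [hv₀, ← hr₀, ← hr₁, ovMap_comp, ovMap_comp, Functor.map_comp, Functor.map_comp, Category.assoc,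
      Category.assoc, hφ]
  obtain ⟨W, a, b, sq⟩ := Groth.L23.exists_isPullback_of_representable hp.1 φ
  have hb : Etale b.left := hp.2 _ _ _ sq
  choose z hz using fun P : MaximalSpectrum D =>
    have := P.isMaximal
    exists_hom_of_isMaximal (S := S) K P.asIdeal
  choose l hl₁ hl₂ using fun P =>
    Groth.L23.exists_lift_yon sq v₀ (ovMap σ (res (z P))) (hsame (z P)).symm
  let iK : ↥(Spec (CommRingCat.of K)) := default
  have hΩ : ∀ P, ∃ Ω : W.left.Opens, IsAffineOpen Ω ∧ (l P).left iK ∈ Ω := fun P => by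
    obtain ⟨_, ⟨Ω, hΩ, rfl⟩, h, -⟩ := W.left.isBasis_affineOpens.exists_subset_of_mem_open
      (Set.mem_univ ((l P).left iK)) isOpen_univ
    exact ⟨Ω, hΩ, h⟩
  choose Ω hΩa hΩm using hΩ
  let E : MaximalSpectrum D → Type u := fun P => Γ(W.left, Ω P)
  let f : ∀ P, CommRingCat.of A ⟶ CommRingCat.of (E P) := fun P =>
    Spec.preimage ((hΩa P).fromSpec ≫ b.left)
  have hf : ∀ P, Spec.map (f P) = (hΩa P).fromSpec ≫ b.left := fun P => Spec.map_preimage _
  letI : ∀ P, Algebra A (E P) := fun P => (f P).hom.toAlgebra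
  letI : ∀ P, Algebra C (E P) := fun P => ((f P).hom.comp (algebraMap C A)).toAlgebra
  haveI : ∀ P, IsScalarTower C A (E P) := fun P => IsScalarTower.of_algebraMap_eq' rfl
  haveI : ∀ P, Algebra.Etale A (E P) := fun P => by
    have : Etale (Spec.map (f P)) := by rw [hf]; infer_instance
    exact (RingHom.etale_algebraMap (R := A) (S := E P)).1
      ((HasRingHomProperty.Spec_iff (P := @Etale)).1 this)
  let g : ∀ P, ov σ (E P) ⟶ W := fun P => Over.homMk (hΩa P).fromSpec (by
    show (hΩa P).fromSpec ≫ W.hom = Spec.map (CommRingCat.ofHom ((f P).hom.comp (algebraMap C A))) ≫ σ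
    rw [← Over.w b, CommRingCat.ofHom_comp, Spec.map_comp, Category.assoc,
      show CommRingCat.ofHom (f P).hom = f P from rfl, hf, Category.assoc]
    rfl)
  have hgb : ∀ P, g P ≫ b = ovMap σ (IsScalarTower.toAlgHom C A (E P)) := fun P =>
    Over.OverMorphism.ext (hf P).symm
  have hw : ∀ P, ∃ w : E P →+* K, Spec.map (CommRingCat.ofHom w) ≫ (hΩa P).fromSpec = (l P).left := by
    intro P
    refine ⟨(Spec.preimage (IsOpenImmersion.lift (hΩa P).fromSpec (l P).left ?_)).hom, ?_⟩
    · rintro _ ⟨x, rfl⟩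
      rw [(hΩa P).range_fromSpec, Subsingleton.elim x iK]
      exact hΩm P
    · rw [show ∀ x : CommRingCat.of (E P) ⟶ CommRingCat.of K, CommRingCat.ofHom x.hom = x from
        fun x => rfl, Spec.map_preimage, IsOpenImmersion.lift_fac]
  choose w hw using hw
  have hwA : ∀ P x, w P (algebraMap A (E P) x) = z P (algebraMap A D x) := by
    intro P x
    have h1 : f P ≫ CommRingCat.ofHom (w P) = CommRingCat.ofHom (res (z P)).toRingHom := by
      apply Spec.map_injective
      rw [Spec.map_comp, hf, reassoc_of% hw P]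
      exact congrArg CommaMorphism.left (hl₂ P)
    exact congr($h1 x)
  have hω : ∀ P, ∃ ω : E P →ₐ[A] D ⧸ P.asIdeal,
      ∀ e x, ω e = Ideal.Quotient.mk _ x → w P e = z P x := by
    intro P
    rw [← hz P]
    exact exists_residue_hom K (z P) (w P) (hwA P)
  choose ω hω using hω
  obtain ⟨τ, hτ⟩ := exists_lift_semilocal S E ω
  let R : MaximalSpectrum D → CommRingCat.{u} := fun P => CommRingCat.of (E P)
  haveI : IsScalarTower C A (∀ P, E P) :=
    IsScalarTower.of_algebraMap_eq fun c => funext fun P => rfl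
  have hev : ∀ P, Sigma.ι (fun P => Spec (R P)) P ≫ sigmaSpec R =
      (ovMap σ (Pi.evalAlgHom C E P)).left := fun P => by
    rw [ι_sigmaSpec]
    rfl
  let γ : ov σ (∀ P, E P) ⟶ V := Over.homMk
    (inv (sigmaSpec R) ≫ Sigma.desc fun P => (g P ≫ a).left) (by
      rw [← cancel_epi (sigmaSpec R), Category.assoc, IsIso.hom_inv_id_assoc]
      refine Sigma.hom_ext _ _ fun P => ?_
      rw [Sigma.ι_desc_assoc, reassoc_of% hev P]
      exact (Over.w (g P ≫ a)).trans (Over.w (ovMap σ (Pi.evalAlgHom C E P))).symm)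
  have hγ : ∀ P, ovMap σ (Pi.evalAlgHom C E P) ≫ γ = g P ≫ a := fun P => by
    apply Over.OverMorphism.ext
    rw [Over.comp_left, ← hev P, Category.assoc]
    show Sigma.ι (fun P => Spec (R P)) P ≫ sigmaSpec R ≫ inv (sigmaSpec R) ≫ _ = _
    rw [IsIso.hom_inv_id_assoc, Sigma.ι_desc]
  refine ⟨V, p, hV, hp, ∀ P, E P, inferInstance, inferInstance, inferInstance, inferInstance,
    inferInstance, τ, γ, v₀, ?_, fun z' => ?_⟩
  · refine Groth.L24.St.hom_ext_of_cover (fun P => ov σ (E P)) (fun P => ovMap σ (Pi.evalAlgHom C E P))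
      (fun P => ?_) (fun P => ?_) (fun y => ?_) fun P => ?_
    · rw [← hev P]; infer_instance
    · rw [← hev P]; infer_instance
    · obtain ⟨y', hy'⟩ := (sigmaSpec R).surjective y
      obtain ⟨P, x, rfl⟩ := (sigmaOpenCover (fun P => Spec (R P))).exists_eq y'
      refine ⟨P, x, ?_⟩
      rw [← hev P, Scheme.Hom.comp_apply]
      exact hy'
    · rw [← Functor.map_comp_assoc, hγ, Functor.map_comp, Category.assoc, sq.w,
        ← Functor.map_comp_assoc, hgb, ← Functor.map_comp_assoc, ← ovMap_comp]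
      rfl
  · let P' : MaximalSpectrum D := ⟨RingHom.ker z', isMaximal_ker K z'⟩
    have e : z' = z P' := eq_of_ker_eq K (hz P').symm
    rw [e]
    generalize P' = P
    have h1 : ∀ e, z P (τ e) = w P (e P) := fun e => (hω P _ _ (hτ P e).symm).symm
    obtain ⟨wC, hwC⟩ : ∃ wC : E P →ₐ[C] K, wC.toRingHom = w P :=
      ⟨{ toRingHom := w P
         commutes' := fun c => by
            show w P (algebraMap A (E P) (algebraMap C A c)) = _
            rw [hwA]
            exact (res (z P)).commutes c }, rfl⟩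
    have h2 : ((z P).restrictScalars C).comp (τ.restrictScalars C) =
        wC.comp (Pi.evalAlgHom C E P) :=
      AlgHom.ext fun e => (h1 e).trans (congr($hwC (e P))).symm
    have h3 : ovMap σ wC ≫ g P = l P := by
      apply Over.OverMorphism.ext
      show Spec.map (CommRingCat.ofHom wC.toRingHom) ≫ (hΩa P).fromSpec = _
      rw [hwC]
      exact hw P
    refine (congrArg (fun m => ovMap σ m ≫ γ) h2).trans ?_
    rw [ovMap_comp, Category.assoc, hγ, ← Category.assoc, h3, hl₁]

end Groth.L24.AffQuot
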